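import Cfsg.Agent.N2.Sp3.K3
import Cfsg.Agent.N2.Sp3.Sc
import Cfsg.Agent.N2.Sp2.Chk
import Cfsg.Agent.N2.Sp1.Sieve
import Cfsg.Agent.H134.Syl.Wr

/-!
# N2 (S3519), sporadic rows: groups with elements of order at most five, and small tools on types (helper23)
-/

set_option autoImplicit false
set_option linter.unusedSectionVars false

namespace Cfsg.Agent.N2.Sp3

open Cfsg Cfsg.Agent.FP3 Cfsg.Agent.TAB.Eng Cfsg.Agent.TAB.Use Cfsg.Agent.SB.SporL Cfsg.Agent.TH.Spor Cfsg.Agent.N2.Sp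
open Cfsg.Agent.N2.Sp1 Cfsg.Agent.N2.Sp2 Subgroup

section
variable {G : Type*} [Group G] [Finite G]

theorem ep_of (h : ∀ a : G, orderOf a ∣ 4 ∨ orderOf a = 3 ∨ orderOf a = 5) : Ep G := fun a p q hp hq h1 h2 => by
  have key : ∀ r k : ℕ, r.Prime → orderOf a ∣ r ^ k → p = q := fun r k hr e =>
    ((Nat.prime_dvd_prime_iff_eq hp hr).1 (hp.dvd_of_dvd_pow (h1.trans e))).trans
      ((Nat.prime_dvd_prime_iff_eq hq hr).1 (hq.dvd_of_dvd_pow (h2.trans e))).symm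
  rcases h a with e | e | e
  exacts [key 2 2 Nat.prime_two e, key 3 1 Nat.prime_three e.dvd, key 5 1 (by norm_num) e.dvd]

theorem ep_quot (h : Ep G) (N : Subgroup G) [N.Normal] : Ep (G ⧸ N) := fun a p q hp hq h1 h2 => by
  obtain ⟨a, rfl⟩ := QuotientGroup.mk'_surjective N a
  exact h a p q hp hq (h1.trans (orderOf_map_dvd _ a)) (h2.trans (orderOf_map_dvd _ a))

theorem ep_core_odd (h : Ep G) (hn : 30 ∣ Nat.card G) {p : ℕ} (hp : p.Prime) (h2 : p ≠ 2) : pCore p G = ⊥ := by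
  by_contra h0
  have := Fact.mk hp
  have h1 := h.odd_prime (Lib.Cores.pCore_isPGroup p) h0 h2 (by omega) Nat.prime_three (by omega)
  have h3 := h.odd_prime (Lib.Cores.pCore_isPGroup p) h0 h2 (by omega) (q := 5) (by norm_num) (by omega)
  omega

theorem ep_not_sq (h : Ep G) (h0 : pCore 2 G ≠ ⊥) {q : ℕ} (hq : q.Prime) (h2 : q ≠ 2) (ho : ∀ a : G, orderOf a < q ^ 2) :
    ¬ q ^ 2 ∣ Nat.card G := fun k => by
  have := Fact.mk hq
  obtain ⟨P⟩ : Nonempty (Sylow q G) := inferInstance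
  obtain ⟨a, ha⟩ := h.cyc (Lib.Cores.pCore_isPGroup 2) h0 h2 h2 P
  exact absurd (Nat.le_of_dvd Nat.card_pos (P.pow_dvd_card_of_pow_dvd_card k)) (not_le.2 (ha ▸ ho a))

theorem ep_no_ten (h : Ep G) (g : G) : orderOf g ≠ 10 := fun e =>
  absurd (h g 2 5 Nat.prime_two (by norm_num) (by rw [e]; norm_num) (by rw [e]; norm_num)) (by norm_num)

theorem conj_pow {p : ℕ} (hp : p.Prime) (h : ¬ p ^ 2 ∣ Nat.card G) {a b : G} (ha : orderOf a = p) (hb : orderOf b = p) :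
    ∃ (g : G) (k : ℕ), b = g * a ^ k * g⁻¹ := by
  have := Fact.mk hp
  have key : ∀ c : G, orderOf c = p → ∃ P : Sylow p G, (P : Subgroup G) = zpowers c := fun c hc => by
    obtain ⟨P, hP⟩ := (IsPGroup.of_card (n := 1) (by rw [Nat.card_zpowers, hc, pow_one]) :
      IsPGroup p (zpowers c)).exists_le_sylow
    obtain ⟨k, hk⟩ := IsPGroup.iff_card.1 P.isPGroup'
    refine ⟨P, (eq_of_le_of_card_ge hP ?_).symm⟩
    rw [Nat.card_zpowers, hc, hk]
    exact (Nat.pow_le_pow_right hp.pos (not_lt.1 fun e => h ((pow_dvd_pow p e).trans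
      (hk ▸ card_subgroup_dvd_card _)))).trans (pow_one p).le
  obtain ⟨P, hP⟩ := key a ha
  obtain ⟨Q, hQ⟩ := key b hb
  obtain ⟨g, hg⟩ := MulAction.exists_smul_eq G P Q
  have h1 : b ∈ ((g • P : Sylow p G) : Subgroup G) := by rw [hg, hQ]; exact mem_zpowers b
  rw [Sylow.coe_subgroup_smul, mem_pointwise_smul_iff_inv_smul_mem, hP, ← mem_powers_iff_mem_zpowers] at h1
  obtain ⟨k, hk⟩ := h1
  refine ⟨g, k, ?_⟩
  rw [show a ^ k = _ from hk]
  simp [mul_assoc]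

theorem primes_le {n m : ℕ} (h : n ∣ 30 ^ m) (r : ℕ) (hr : r.Prime) (k : r ∣ n) : r ≤ 5 := by
  have h1 : r ∣ 2 * 3 * 5 := hr.dvd_of_dvd_pow (k.trans h)
  rcases hr.dvd_mul.1 h1 with e | e
  · exact (hr.dvd_mul.1 e).elim (fun e => (Nat.le_of_dvd two_pos e).trans (by norm_num))
      fun e => (Nat.le_of_dvd three_pos e).trans (by norm_num)
  · exact Nat.le_of_dvd (by norm_num) e

end

variable {K : Type} [Group K] [Finite K] {D : Dat} {T : TD K D} {R : Rows} {ν : List ℕ} {A : Subgroup K} {O : Sp.Out} {U : ℕ}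

theorem res_perm (h : Res T A O U) {O' : Sp.Out} (h' : ∀ e ∈ O, e ∈ O') : Res T A O' U :=
  ⟨h.1, fun a ha => (h.2 a ha).imp id fun ⟨e, k, k'⟩ => ⟨e, h' e k, k'⟩⟩

/-- the types of the elements of order `k` -/
theorem ty_mem (hz : D.ord 0 = 1) (h : Res T A O U) {n k : ℕ} (hn : Nat.card A ≤ n) {L : List ℕ}
    (hL : ∀ e ∈ O, e.2.1 ≤ n → D.ord e.1 = k → e.1 ∈ L) (hk : k ≠ 1) {a : K} (ha : a ∈ A) (ho : orderOf a = k) :
    T.ty a ∈ L := by
  rw [T.ord] at ho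
  obtain ⟨e, h1, h2, h3, -⟩ := (h.2 a ha).resolve_left fun e => hk (by rw [← ho, e, hz])
  exact h2 ▸ hL e h1 (h3.trans hn) (h2 ▸ ho)

theorem vec_ne {v : List ℕ} (h : Vec T A v) {a : K} (ha : a ∈ A) : ntd v 0 (T.ty a) ≠ 0 :=
  h _ (T.lt a) ▸ (num_pos ha).ne'

theorem vec_ex {v : List ℕ} (h : Vec T A v) {t : ℕ} (ht : t < D.n) (h0 : ntd v 0 t ≠ 0) : ∃ a ∈ A, T.ty a = t :=
  num_ne (h t ht ▸ h0)

theorem num_mono {B : Subgroup K} (h : B ≤ A) (t : ℕ) : num T B t ≤ num T A t :=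
  Nat.card_le_card_of_injective (β := {s : A // T.ty s = t}) (fun s => ⟨⟨s.1, h s.1.2⟩, s.2⟩)
    fun _ _ e => Subtype.ext (Subtype.ext (congrArg (fun x => (x.1 : K)) e :))

/-- one type of elements of order `p` -/
theorem ty_pow {p : ℕ} (hp : p.Prime) (h : ¬ p ^ 2 ∣ Nat.card A) {a b : K} (ha : a ∈ A) (hb : b ∈ A) (h1 : orderOf a = p)
    (h2 : orderOf b = p) : ∃ k < p, T.ty b = D.pwf (T.ty a) k := by
  obtain ⟨g, k, e⟩ := conj_pow hp h (a := ⟨a, ha⟩) (b := ⟨b, hb⟩) (by rw [orderOf_mk, h1]) (by rw [orderOf_mk, h2])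
  refine ⟨k % p, Nat.mod_lt _ hp.pos, ?_⟩
  rw [← T.pow, ← h1, pow_mod_orderOf, ← T.conj (a ^ k) g]
  exact congrArg (fun x : A => T.ty x) e

/-- the extension of a normal `p`-subgroup by an element of prime order -/
theorem exists_ext {Q : Subgroup A} [Q.Normal] {q : ℕ} (hq : q.Prime) (h1 : ¬ q ∣ Nat.card Q) (h2 : q ∣ Nat.card A) :
    ∃ B ≤ A, Nat.card B = Nat.card Q * q := by
  have := Fact.mk hq
  obtain ⟨u, hu⟩ := exists_prime_orderOf_dvd_card' q h2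
  refine ⟨(Q ⊔ zpowers u).map A.subtype, map_subtype_le _, ?_⟩
  rw [card_map_of_injective A.subtype_injective, H134.Syl.card_sup_norm
    (fun k _ n hn => Normal.conj_mem inferInstance n hn k) fun x k1 k2 => ?_, Nat.card_zpowers, hu]
  have k3 := orderOf_dvd_natCard _ k2
  rw [Nat.card_zpowers, hu, Nat.dvd_prime hq] at k3
  exact orderOf_eq_one_iff.1 (k3.resolve_right fun e => h1 (e ▸ orderOf_dvd_natCard _ k1))

end Cfsg.Agent.N2.Sp3
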