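import Cfsg.Agent.N2.Tool
import Cfsg.Prelude.Def_KGroupFacts

/-!
# N2 (S3519), sporadic rows: two general lemmas (helper23)
-/

set_option autoImplicit false

namespace Cfsg.Agent.N2.Sp3

open Cfsg Cfsg.Agent.FP3 Subgroup

variable {G : Type*} [Group G] {A : Subgroup G} {Γ : Subgroup (MulAut G)}

/-- without outer automorphisms `A` is a maximal subgroup -/
theorem coatom_of_mi (ho : Nat.card (Out G) = 1) (h : MI A Γ) : IsCoatom A := by
  have h2 : Cfsg.Inn G = ⊤ := index_eq_one.1 ho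
  refine ⟨h.ne_top, fun B hB => (h.max B hB.le fun σ hσ b hb => ?_).resolve_left hB.ne'⟩
  obtain ⟨a, rfl⟩ : σ ∈ Cfsg.Inn G := h2 ▸ mem_top σ
  have h3 := hB.le ((h.conj a).1 hσ)
  exact B.mul_mem (B.mul_mem h3 hb) (B.inv_mem h3)

/-- a prime whose elements have small centralisers -/
theorem good_of_prime [Finite G] {p c : ℕ} (hp : p.Prime) (hd : p ∣ Nat.card A) (h : ∀ x : G, orderOf x = p → cn x ≤ c)
    (hc : c ^ 3 * Nat.card A ≤ Nat.card G) : Good A := by
  have := Fact.mk hp
  obtain ⟨x, hx⟩ := exists_prime_orderOf_dvd_card' (G := A) p hd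
  exact good_of_cn x.2 (h x (by rw [orderOf_coe, hx])) hc

theorem cn_of {x : G} {p n : ℕ} (hx : orderOf x = p) (h : ∀ Q : Subgroup G, Nat.card Q = p → Nat.card (centralizer (Q : Set G)) = n) :
    cn x = n := by
  rw [← h (zpowers x) (by rw [Nat.card_zpowers, hx]), cn]
  refine congrArg (fun H : Subgroup G => Nat.card H) (le_antisymm (fun y hy => mem_centralizer_iff.2 ?_)
    (centralizer_le (Set.singleton_subset_iff.2 (mem_zpowers x))))
  rintro _ ⟨k, rfl⟩
  exact (Commute.zpow_left (mem_centralizer_iff.1 hy x rfl) k).eq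

end Cfsg.Agent.N2.Sp3
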