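import Cfsg.Agent.N2.Sp3.Epx
import Cfsg.Agent.N2.Sp3.HNv0
import Cfsg.Agent.N2.Sp3.HNv1
import Cfsg.Agent.N2.Sp3.HNv2
import Cfsg.Agent.N2.SpK.RA
import Cfsg.Agent.H621.Deg.Split

/-!
# N2 (S3519), the row of HN (helper23)
-/

set_option autoImplicit false
set_option Elab.async false

namespace Cfsg.Agent.N2.Sp3.HN

open Cfsg Cfsg.Agent.FP3 Cfsg.Agent.TAB.Eng Cfsg.Agent.TAB.Use Cfsg.Agent.SB.SporL Cfsg.Agent.TH.Spor Cfsg.Agent.N2.Sp
open Cfsg.Agent.N2.Sp.HN Cfsg.Agent.N2.Sp1 Cfsg.Agent.N2.Sp2 Subgroup

/-- the orders which are left by the first engine -/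
def RES : List ℕ :=
  [60, 720, 1500, 2160, 4320, 4860, 6000, 11520, 15360, 18000, 20250, 33750, 36000, 37500, 54000, 60000, 60750,
    67500, 69120, 72000, 75000, 81000, 101250, 102400, 103680, 108000, 110592, 112500, 115200, 116640, 120000,
    121500, 122880, 124416, 125000, 128000, 129600, 135000, 138240, 140625, 144000, 145800, 147456, 150000, 151875,
    153600, 155520, 160000, 162000, 165888, 168750, 172800, 180000, 182250, 184320, 186624, 187500, 192000, 194400,
    200000, 202500, 204800, 207360, 216000, 221184, 225000, 230400, 233280, 240000, 243000, 245760, 248832, 250000,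
    253125, 256000, 259200, 270000, 276480, 281250, 288000, 291600, 300000, 303750, 307200, 311040, 320000, 324000,
    331776, 337500, 345600, 360000, 364500, 368640, 373248, 375000, 384000, 388800, 400000, 405000, 409600, 414720,
    421875, 432000, 442368, 450000, 455625, 460800, 466560, 480000, 486000, 497664, 500000, 506250, 512000, 518400,
    540000, 552960, 562500, 576000, 583200, 600000, 607500, 614400, 622080, 640000, 648000, 663552, 675000, 691200,
    720000, 729000, 737280, 746496, 750000, 759375, 768000, 777600, 800000, 810000, 829440, 843750, 864000, 900000,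
    911250, 921600, 933120, 960000, 972000, 995328, 1000000, 1012500, 1024000, 1036800, 1080000, 1105920, 1125000,
    1152000, 1166400, 1200000, 1215000, 1228800, 1244160, 1265625, 1280000, 1296000, 1327104, 1350000, 1382400,
    1440000, 1458000, 1492992, 1500000, 1518750, 1536000, 1555200, 1600000, 1620000, 1658880, 1687500, 1728000,
    1800000, 1822500, 1843200, 1866240, 1920000, 1944000, 1990656, 2000000, 2025000, 2048000, 2073600, 2160000,
    2211840, 2250000, 2278125, 2304000, 2332800, 2400000, 2430000, 2488320, 2531250, 2560000, 2592000, 2700000,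
    2764800, 2880000, 2916000]

theorem okE : Sp2.chk D R nu O 2948178 [(2, 14), (3, 6), (5, 6)] RES [] = true := by decide +kernel

theorem okR : ∀ n ∈ RES, n ∈ [60, 720, 1500, 4320, 6000, 11520, 36000, 54000, 72000] ∨
    ∃ c ∈ [CL0, CL1, CL2], n ∈ c.map fun x => x.2.2.1 := by decide +kernel

theorem okF : ∀ c ∈ [8, 9], scB D R c [(3, 1), (3, 2), (4, 1), (4, 2)]
    (fun p L S => decide (0 ≤ L) && decide ((D.cnt p.1 * D.cnt p.2 : ℕ) * S < D.N * L)) = true := by decide +kernel

theorem okZ' : ∀ c ∈ [8, 9, 10], scB D R c [(3, 2), (4, 2)] (fun _ L S => decide (D.N * S < L)) = true := by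
  decide +kernel

variable {K : Type} [Group K] [Finite K] [IsSimpleGroup K] {T : TD K D} {A : Subgroup K} {Γ : Subgroup (MulAut K)}

omit [IsSimpleGroup K] in
theorem card_of_vec {v : List ℕ} (hv : v ∈ SOL) (h : Vec T A v) : Nat.card A = 15360 := by
  rw [card_eq_sum (T := T) A, Finset.sum_congr rfl fun t ht => h t (Finset.mem_range.1 ht)]
  clear h
  revert v
  decide +kernel

theorem cases (H : Hy T R nu) (hU : Unif T) (hn : ¬ IsMulCommutative K) (ho : (N2.Inn K).index ≤ 2) (hm : MI A Γ)
    (hb : ¬ Good A) : Nat.card A ∈ [60, 720, 1500, 4320, 6000, 11520, 36000, 54000, 72000] ∨ ∃ v ∈ SOL, Vec T A v := by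
  have hr := res H hb hm.ne_top
  refine (okR _ (main H hU hn ho hm hb hr okE)).imp id fun ⟨c, h1, h2⟩ => ?_
  have h3 : chkC D R nu 22 O SOL c = true := by
    simp only [List.mem_cons, List.not_mem_nil, or_false] at h1
    rcases h1 with rfl | rfl | rfl
    exacts [ok0, ok1, ok2]
  exact badC H hb hr h3 h2

omit [IsSimpleGroup K] in
theorem big (H : Hy T R nu) {v : List ℕ} (hv : v ∈ SOL) (h : Vec T A v) (hE : Ep A) (h0 : pCore 2 A ≠ ⊥) : False := by
  have hc := card_of_vec hv h
  have := Fact.mk Nat.prime_two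
  have h1 := hE.dvd_loc (Lib.Cores.pCore_isPGroup 2) (m := 15) (by rw [hc]; norm_num) (by norm_num)
  obtain ⟨k, hk⟩ := IsPGroup.iff_card.1 (Lib.Cores.pCore_isPGroup (G := A) 2)
  have h2 := (pCore 2 A).card_mul_index
  have h3 : k < 11 := not_le.1 fun e => by
    have h3 := (pow_dvd_pow 2 e).trans (hk ▸ (pCore 2 A).card_subgroup_dvd_card)
    omega
  have h4 : k ≠ 0 := fun e => h0 (card_eq_one.1 (by rw [hk, e, pow_zero]))
  have h5 : k = 4 ∨ k = 8 := by
    rw [hk] at h1
    interval_cases k <;> simp_all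
  rcases h5 with rfl | rfl
  · have h5 : Nat.card (A ⧸ pCore 2 A) = 960 := by
      rw [hk, hc] at h2
      change (pCore 2 A).index = 960
      omega
    have := (Finite.one_lt_card_iff_nontrivial (α := A ⧸ pCore 2 A)).1 (by omega)
    have hE' := ep_quot hE (pCore 2 A)
    have h6 := k3 (G := A ⧸ pCore 2 A) (fun p hp => (eq_or_ne p 2).elim
      (fun e => by rw [e]; exact Lib.Cores.pCore_quotient_pCore 2) (ep_core_odd hE' (by omega) hp)) (primes_le (m := 6) (by rw [h5]; norm_num)) (ep_no_ten hE')
    rw [h5] at h6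
    omega
  · obtain ⟨B, h5, h6⟩ := exists_ext (Q := pCore 2 A) (q := 5) (by norm_num) (by rw [hk]; norm_num) (by omega)
    rw [hk] at h6
    simp only [SOL, List.mem_cons, List.not_mem_nil, or_false] at hv
    rcases hv with rfl | rfl
    · obtain ⟨a, ha, k1⟩ := vec_ex h (t := 8) (by decide) (by decide)
      obtain ⟨b, hb, k2⟩ := vec_ex h (t := 9) (by decide) (by decide)
      obtain ⟨j, k3, k4⟩ := ty_pow (T := T) (p := 5) (by norm_num) (by rw [hc]; norm_num) ha hb (by rw [T.ord, k1]; rfl)
        (by rw [T.ord, k2]; rfl)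
      rw [k1, k2] at k4
      revert j
      decide +kernel
    · obtain ⟨w, k1, k2⟩ := sub H (V := [1, 2, 5, 10]) (fun a ha => by
        have k3 := T.lt a
        have k1 := vec_ne h (h5 ha)
        have k2 := orderOf_dvd_natCard _ ha
        rw [T.ord, h6] at k2
        generalize T.ty a = t at k3 k1 k2
        revert k1 k2
        revert t
        decide +kernel) h6 okS
      have k3 := num_mono (T := T) h5 1
      rw [h 1 (by decide), k2 1 (by decide), List.mem_singleton.1 k1] at k3
      revert k3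
      decide

theorem dead (H : Hy T R nu) (hU : Unif T) (hn : ¬ IsMulCommutative K) (ho : (N2.Inn K).index ≤ 2) (hm : MI A Γ)
    (hb : ¬ Good A) : False := by
  have hr := res H hb hm.ne_top
  have hc := cases H hU hn ho hm hb
  have h1 : Nat.card A ∈ [60, 720, 1500, 4320, 6000, 11520, 36000, 54000, 72000, 15360] :=
    hc.elim (List.mem_append_left [15360]) fun ⟨v, hv, h⟩ => by rw [card_of_vec hv h]; simp
  simp only [List.mem_cons, List.not_mem_nil, or_false] at h1
  have h2 : ∀ a : A, orderOf a ∣ 4 ∨ orderOf a = 3 ∨ orderOf a = 5 := fun a => by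
    rw [← orderOf_coe, T.ord]
    rcases hr.2 a a.2 with e | ⟨e, k1, k2, k3, -⟩
    · rw [e]
      exact .inl (by decide)
    · rw [k2]
      have k4 : e.2.1 ≤ 72000 := by omega
      clear k2 k3
      revert e
      decide +kernel
  have hE := ep_of h2
  by_cases h0 : pCore 2 A = ⊥
  · have := (nontrivial_iff_ne_bot A).2 hm.ne_bot
    rcases k3 (G := A) (fun p hp => (eq_or_ne p 2).elim (fun e => by rw [e, h0]) (ep_core_odd hE (by omega) hp))
      (primes_le (m := 10) (by rcases h1 with h | h | h | h | h | h | h | h | h | h <;> rw [h] <;> norm_num))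
      (ep_no_ten hE) with ⟨h3, S, h4, h5, x, y, h6, h7⟩ | ⟨h3, h4, x, w, h5, h6⟩ | h3
    · have h8 : Nat.card A ≤ 120 := Nat.le_of_dvd (by norm_num) h3
      have h9 := h6.map A.subtype A.subtype_injective
      have k1 := ty_mem rfl hr h8 (L := [3, 4]) (k := 3) (by decide +kernel) (by norm_num) x.2 h9.1
      have k2 := ty_mem rfl hr h8 (L := [1, 2]) (k := 2) (by decide +kernel) (by norm_num) y.2 h9.2.1
      have k3 := ty_mem rfl hr h8 (L := [8, 9]) (k := 5) (by decide +kernel) (by norm_num) (A.mul_mem x.2 y.2) h9.2.2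
      refine sc_free H.mass H.tab (okF _ k3) (one_of_inv H.mass hU h9.2.1) ?_ (fun g => free_of_mi hn hm h4 h5
        (fun e => by have := h6.1; rw [e, orderOf_one] at this; omega) h7) rfl
      exact (by decide : ∀ a ∈ [3, 4], ∀ b ∈ [1, 2], (a, b) ∈ [(3, 1), (3, 2), (4, 1), (4, 2)]) _ k1 _ k2
    · have h8 : Nat.card A ≤ 720 := by
        have := Nat.le_of_dvd (by norm_num) h4
        omega
      generalize hy : w ^ 2 = y at h6
      have h9 := h6.map A.subtype A.subtype_injective
      have k1 := ty_mem rfl hr h8 (L := [3, 4]) (k := 3) (by decide +kernel) (by norm_num) x.2 h9.1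
      have k2 := ty_mem rfl hr h8 (L := [5]) (k := 4) (by decide +kernel) (by norm_num) w.2 (by rw [orderOf_coe, h5])
      have k3 := ty_mem rfl hr h8 (L := [8, 9, 10]) (k := 5) (by decide +kernel) (by norm_num)
        (A.mul_mem x.2 y.2) h9.2.2
      have k4 : T.ty (A.subtype y) = 2 := by
        rw [← hy, map_pow, T.pow, show T.ty (A.subtype w) = 5 from List.mem_singleton.1 k2]
        decide +kernel
      refine sc_zero H.mass H.tab (okZ' _ k3) (one_of_inv H.mass hU h9.2.1) ?_ rfl
      rw [k4]
      exact (by decide : ∀ a ∈ [3, 4], (a, 2) ∈ [(3, 2), (4, 2)]) _ k1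
    · omega
  · have h3 : ∀ a : A, orderOf a ≤ 5 := fun a => by
      rcases h2 a with e | e | e
      · exact (Nat.le_of_dvd (by norm_num) e).trans (by norm_num)
      all_goals omega
    have h4 := ep_not_sq hE h0 Nat.prime_three (by norm_num) fun a => (h3 a).trans_lt (by norm_num)
    have h5 := ep_not_sq hE h0 (q := 5) (by norm_num) (by norm_num) fun a => (h3 a).trans_lt (by norm_num)
    rcases hc with hc | ⟨v, hv, h⟩
    · simp only [List.mem_cons, List.not_mem_nil, or_false] at hc
      have h6 : Nat.card A = 60 := by omega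
      have := Fact.mk Nat.prime_two
      have h7 := hE.dvd_loc (Lib.Cores.pCore_isPGroup 2) (m := 15) (by omega) (by norm_num)
      obtain ⟨k, hk⟩ := IsPGroup.iff_card.1 (Lib.Cores.pCore_isPGroup (G := A) 2)
      have h8 := (pCore 2 A).card_subgroup_dvd_card
      have h9 : k < 3 := not_le.1 fun e => by
        have h9 := (pow_dvd_pow 2 e).trans (hk ▸ h8)
        omega
      have h10 : k ≠ 0 := fun e => h0 (card_eq_one.1 (by rw [hk, e, pow_zero]))
      rw [hk] at h7
      interval_cases k <;> simp_all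
    · exact big H hv h hE h0

end Cfsg.Agent.N2.Sp3.HN

namespace Cfsg.Agent.N2.Sp3

open Cfsg Cfsg.Agent.FP3 Cfsg.Agent.N2.Sp

/-- **the row of HN** -/
theorem row_HN {K : Type} [Group K] [Finite K] [IsSimpleGroup K] (hn : ¬ IsMulCommutative K) (h : Spor.IsoHN K) :
    ASRow K := fun _ _ hm => by_contra fun hb => by
  obtain ⟨T, H, hU, -⟩ := hy_of (SpK.inK_hn h) Sp.HN.okz (ν := Sp.HN.nu) (by decide +kernel)
  exact HN.dead H hU hn (H621.Deg.index_le_two (.inr (.inr (by simp only [IsSporadicGroup, h, true_or, or_true])))) hm hb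

end Cfsg.Agent.N2.Sp3
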