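import Cfsg.Agent.N2.Sp3.Gen
import Cfsg.Agent.H854.JM.Local
import Cfsg.Agent.OrdDiv.Table
import Cfsg.Agent.S0000
import Cfsg.Agent.S5580
import Cfsg.Agent.S5581
import Cfsg.Agent.S2068

/-!
# N2 (S3519), the row of `J₄`: the list of the maximal subgroups (helper23)
-/

set_option autoImplicit false

namespace Cfsg.Agent.N2.Sp3

open Cfsg Cfsg.Agent.FP3 Subgroup

namespace J4

open Cfsg.Agent.H854.JM Cfsg.Agent.H866 Cfsg.Agent.H866.J4Ord Cfsg.Agent.H866.J4Min

/-- the group `Spor.J4` -/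
local notation "𝒢" => Cfsg.Spor.J4

theorem known : Known.{0} := fun _ _ _ _ => S0000.result

theorem card_mem {M : Subgroup 𝒢} (hM : IsCoatom M) : (∃ i, Nat.card M = c8 i) ∨ ∃ i, Nat.card M = c5 i := by
  have := simple_J
  by_cases hl : NonLoc M
  · obtain ⟨f, -, h2, h3⟩ := five S5580.rows OrdDiv.table known (S5581.result noncomm_J janko)
    obtain ⟨i, g, h⟩ := h3 M hM hl
    exact Or.inr ⟨i, by rw [h, H860.JM.card_cj, h2]⟩
  obtain ⟨f, -, h2, h3, h4⟩ := H546.JM.reps8 OrdDiv.table known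
  suffices h : ∃ i g, M = H860.JM.cj g (f i) by
    obtain ⟨i, g, h⟩ := h
    exact Or.inl ⟨i, by rw [h, H860.JM.card_cj, h2]; rfl⟩
  unfold NonLoc at hl
  push Not at hl
  obtain ⟨p, hp, Q, hQM, hQ, hn, hQb⟩ := hl
  by_cases hp2 : p = 2
  · subst hp2
    exact h3 M hM (good_J M hM Q hQb hQ hQM hn)
  have := Fact.mk hp
  have : Fact (Nat.Prime 11) := ⟨by norm_num⟩
  have : Fact (Nat.Prime 29) := ⟨by norm_num⟩
  have : Fact (Nat.Prime 37) := ⟨by norm_num⟩
  have : Fact (Nat.Prime 43) := ⟨by norm_num⟩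
  rcases H820.J4L.odd_local noncomm_J janko (J4Facts.facts OrdDiv.table known noncomm_J janko) (MulEquiv.refl _) hp2 hM hQb
    hQM hn hQ with ⟨Q, k1, k2, k4, k5⟩ | ⟨U, rfl⟩ | ⟨U, rfl⟩ | ⟨U, rfl⟩ | ⟨U, rfl⟩
  · exact h3 M hM (good_J M hM Q k1 k2 k4 k5)
  · exact h4 11 (by simp) U
  · exact h4 29 (by simp) U
  · exact h4 37 (by simp) U
  · exact h4 43 (by simp) U

theorem good {M : Subgroup 𝒢} (hM : IsCoatom M) : FP3.Good M := by
  have F := cents_J OrdDiv.table known
  have k : ∀ {p c n : ℕ}, p.Prime → (∀ Q : Subgroup 𝒢, Nat.card Q = p → Nat.card (centralizer (Q : Set 𝒢)) = c) →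
      Nat.card M = n → p ∣ n → c ^ 3 * n ≤ 86775571046077562880 → FP3.Good M := fun hp hc hn hd hl =>
    good_of_prime hp (hn ▸ hd) (fun x hx => (cn_of hx hc).le) (by rw [hn, card_J]; exact hl)
  have k5 := fun {n} => k (n := n) Nat.prime_five F.c5
  have k7 := fun {n} => k (n := n) (by norm_num) F.c7
  have k23 := fun {n} => k (n := n) (by norm_num) (F.cp 23 (by simp))
  have k37 := fun {n} => k (n := n) (by norm_num) (F.cp 37 (by simp))
  rcases card_mem hM with ⟨i, h⟩ | ⟨i, h⟩ <;> fin_cases i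
  · exact k7 (n := 21799895040) h (by norm_num) (by norm_num)
  · exact k23 (n := 501397585920) h (by norm_num) (by norm_num)
  · exact k7 (n := 10239344640) h (by norm_num) (by norm_num)
  · exact k7 (n := 660602880) h (by norm_num) (by norm_num)
  · exact k5 (n := 319440) h (by norm_num) (by norm_num)
  · exact k7 (n := 812) h (by norm_num) (by norm_num)
  · exact k37 (n := 444) h (by norm_num) (by norm_num)
  · exact k7 (n := 602) h (by norm_num) (by norm_num)
  · exact k37 (n := 141831360) h (by norm_num) (by norm_num)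
  · exact k7 (n := 887040) h (by norm_num) (by norm_num)
  · exact k5 (n := 163680) h (by norm_num) (by norm_num)
  · exact k23 (n := 12144) h (by norm_num) (by norm_num)
  · exact k7 (n := 6048) h (by norm_num) (by norm_num)

end J4

/-- **the row of `J₄`** -/
theorem row_J4 (K : Type*) [Group K] (h : Spor.IsoJ4 K) : ASRow K := by
  obtain ⟨e⟩ := h
  exact asRow_congr e.symm fun _ _ hA => J4.good (coatom_of_mi S2068.result hA)

end Cfsg.Agent.N2.Sp3
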