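import Cfsg.Agent.N2.Sp2.Mi
import Cfsg.Agent.H366.AlmostSimple
import Cfsg.Agent.SolvableStructure.HallConverse
import Cfsg.Agent.S3719
import Cfsg.Agent.S0243
import Cfsg.Agent.S2119
import Cfsg.Agent.SmallSimple.S1000.PSLFacts
import Cfsg.Agent.H93.ThreeNine
import Cfsg.Agent.H824.ProdLem

/-!
# N2 (S3519), sporadic rows: `{2,3,5}`-groups without normal subgroups of prime power order (helper23)
-/

set_option autoImplicit false
set_option linter.unusedSectionVars false

namespace Cfsg.Agent.N2.Sp3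

open Cfsg Cfsg.Agent.FP3 Subgroup Equiv

/-- a `(3,2,5)`-triple -/
def Tri5 {G : Type*} [Group G] (x y : G) : Prop := orderOf x = 3 ∧ orderOf y = 2 ∧ orderOf (x * y) = 5

theorem Tri5.map {G H : Type*} [Group G] [Group H] {x y : G} (h : Tri5 x y) (f : G →* H) (hf : Function.Injective f) :
    Tri5 (f x) (f y) :=
  ⟨(orderOf_injective f hf x).trans h.1, (orderOf_injective f hf y).trans h.2.1, by
    rw [← map_mul]; exact (orderOf_injective f hf _).trans h.2.2⟩

theorem tri_five : ∃ x y : alternatingGroup (Fin 5), Tri5 x y := by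
  have := Fact.mk Nat.prime_three
  have : Fact (Nat.Prime 5) := ⟨by norm_num⟩
  refine ⟨⟨swap 0 2 * swap 2 4, Perm.mem_alternatingGroup.2 (by decide +kernel)⟩,
    ⟨swap 0 1 * swap 2 3, Perm.mem_alternatingGroup.2 (by decide +kernel)⟩, ?_, ?_, ?_⟩ <;>
    exact orderOf_eq_prime (Subtype.ext (by decide +kernel)) fun e => absurd (congrArg Subtype.val e) (by decide +kernel)

theorem tri_six : ∃ x w : alternatingGroup (Fin 6), orderOf w = 4 ∧ Tri5 x (w ^ 2) := by
  have := Fact.mk Nat.prime_three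
  have : Fact (Nat.Prime 5) := ⟨by norm_num⟩
  refine ⟨⟨swap 0 2 * swap 2 4, Perm.mem_alternatingGroup.2 (by decide +kernel)⟩,
    ⟨swap 0 2 * swap 2 1 * swap 1 3 * swap 4 5, Perm.mem_alternatingGroup.2 (by decide +kernel)⟩, ?_, ?_, ?_, ?_⟩
  · exact orderOf_eq_prime_pow (p := 2) (n := 1) (fun e => absurd (congrArg Subtype.val e) (by decide +kernel))
      (Subtype.ext (by decide +kernel))
  all_goals
    exact orderOf_eq_prime (Subtype.ext (by decide +kernel)) fun e => absurd (congrArg Subtype.val e) (by decide +kernel)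

variable {G : Type*} [Group G] [Finite G]

theorem card_five : Nat.card (alternatingGroup (Fin 5)) = 60 := by
  have h := two_mul_nat_card_alternatingGroup (α := Fin 5)
  rw [Nat.card_perm, Nat.card_fin, show Nat.factorial 5 = 120 from rfl] at h
  omega

theorem card_six : Nat.card (alternatingGroup (Fin 6)) = 360 := by
  have h := two_mul_nat_card_alternatingGroup (α := Fin 6)
  rw [Nat.card_perm, Nat.card_fin, show Nat.factorial 6 = 720 from rfl] at h
  omega

theorem Tri5.top [IsSimpleGroup G] (hG : Nat.card G = 60) {x y : G} (h : Tri5 x y) : Subgroup.closure {x, y} = ⊤ := by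
  have hx : x ∈ Subgroup.closure {x, y} := subset_closure (by simp)
  have hy : y ∈ Subgroup.closure {x, y} := subset_closure (by simp)
  have h1 := h.1 ▸ orderOf_dvd_natCard _ hx
  have h2 := h.2.1 ▸ orderOf_dvd_natCard _ hy
  have h3 := h.2.2 ▸ orderOf_dvd_natCard _ (mul_mem hx hy)
  have h4 := (Subgroup.closure {x, y} : Subgroup G).card_mul_index
  have h5 : 30 ∣ Nat.card (Subgroup.closure {x, y} : Subgroup G) := by omega
  obtain ⟨k, hk⟩ := h5
  rw [hG, hk] at h4
  have h6 : (Subgroup.closure {x, y} : Subgroup G).index ∣ 2 := Dvd.intro_left k (by linarith)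
  rcases (Nat.dvd_prime Nat.prime_two).1 h6 with h7 | h7
  · exact index_eq_one.1 h7
  · refine (normal_of_index_eq_two h7).eq_bot_or_eq_top.resolve_left fun e => ?_
    rw [e, card_bot] at h1
    omega

theorem dvd_of_not_solv (h5 : ∀ r : ℕ, r.Prime → r ∣ Nat.card G → r ≤ 5) (h : ¬ Group.IsSolvable G) :
    (Nat.card G).primeFactors = {2, 3, 5} := by
  refine Finset.eq_of_subset_of_card_le (fun r hr => ?_) (not_lt.1 fun k =>
    h (SolvableStructure.HallConverse.isSolvable_of_no_three_primes (Nat.le_of_lt_succ k)))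
  have hp := Nat.prime_of_mem_primeFactors hr
  have h1 := h5 r hp (Nat.dvd_of_mem_primeFactors hr)
  have h2 := hp.two_le
  have h4 : r ≠ 4 := by
    rintro rfl
    norm_num at hp
  simp only [Finset.mem_insert, Finset.mem_singleton]
  omega

theorem exists_ord_of_not_solv (h5 : ∀ r : ℕ, r.Prime → r ∣ Nat.card G → r ≤ 5) {B : Subgroup G}
    (h : ¬ Group.IsSolvable B) {r : ℕ} (hr : r ∈ ({2, 3, 5} : Finset ℕ)) : ∃ b ∈ B, orderOf b = r := by
  rw [← dvd_of_not_solv (fun r hr k => h5 r hr (k.trans B.card_subgroup_dvd_card)) h] at hr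
  have := Fact.mk (Nat.prime_of_mem_primeFactors hr)
  obtain ⟨b, hb⟩ := exists_prime_orderOf_dvd_card' r (Nat.dvd_of_mem_primeFactors hr)
  exact ⟨b, b.2, by rw [orderOf_coe, hb]⟩

theorem rad_of_core (hO : ∀ p : ℕ, p.Prime → pCore p G = ⊥) (M : Subgroup G) (hM : M.Normal) (h : Group.IsSolvable M) :
    M = ⊥ := by
  by_contra h0
  have := (nontrivial_iff_ne_bot M).2 h0
  obtain ⟨r, hr, h1⟩ := SB.Red.exists_pCore_ne_bot h
  have := Lib.Cores.pCore_characteristic (G := M) r
  have h2 := Lib.Cores.le_pCore (N := (pCore r M).map M.subtype) inferInstance ((Lib.Cores.pCore_isPGroup r).map _)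
  rw [hO r hr, le_bot_iff, map_eq_bot_iff_of_injective _ M.subtype_injective] at h2
  exact h1 h2

theorem char_of_simple {S : Subgroup G} [hN : S.Normal] (hS : IsSimpleGroup S) (hC : centralizer (S : Set G) = ⊥) :
    S.Characteristic := by
  refine characteristic_iff_le_comap.2 fun φ => ?_
  have h1 : (S.comap φ.toMonoidHom).Normal := hN.comap _
  rcases (h1.subgroupOf S).eq_bot_or_eq_top with h | h
  · have h2 : S.comap φ.toMonoidHom ≤ ⊥ := hC ▸ fun x hx => mem_centralizer_iff.2 fun y hy =>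
      (commute_of_normal_of_disjoint S _ hN h1 (subgroupOf_eq_bot.1 h).symm y x hy hx).eq
    obtain ⟨⟨s, hs⟩, h3⟩ := exists_ne (1 : S)
    have h4 : φ.symm s = 1 := mem_bot.1 (h2 (show φ (φ.symm s) ∈ S by simpa using hs))
    exact absurd (Subtype.ext (by simpa using h4)) h3
  · exact subgroupOf_eq_top.1 h

theorem card_dvd_aut {S : Subgroup G} [S.Normal] (hC : centralizer (S : Set G) = ⊥) {H : Type*} [Group H] (e : S ≃* H) :
    Nat.card G ∣ Nat.card (MulAut H) := by
  rw [← Nat.card_congr (MulAut.congr e).toEquiv]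
  refine card_dvd_of_injective (MulAut.conjNormal (H := S)) ((MonoidHom.ker_eq_bot_iff _).1 (eq_bot_iff.2 fun g hg => ?_))
  rw [← hC]
  exact mem_centralizer_iff.2 fun s hs => (mul_inv_eq_iff_eq_mul.1
    (congrArg Subtype.val (MulEquiv.congr_fun (MonoidHom.mem_ker.1 hg) ⟨s, hs⟩))).symm

/-- **the non-local `{2,3,5}`-groups without elements of order `10`** -/
theorem k3 [Nontrivial G] (hO : ∀ p : ℕ, p.Prime → pCore p G = ⊥) (h5 : ∀ r : ℕ, r.Prime → r ∣ Nat.card G → r ≤ 5)
    (h10 : ∀ g : G, orderOf g ≠ 10) :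
    (Nat.card G ∣ 120 ∧ ∃ S : Subgroup G, S.Characteristic ∧ centralizer (S : Set G) = ⊥ ∧
      ∃ x y : G, Tri5 x y ∧ Subgroup.closure {x, y} = S) ∨
    (360 ∣ Nat.card G ∧ Nat.card G ∣ 1440 ∧ ∃ x w : G, orderOf w = 4 ∧ Tri5 x (w ^ 2)) ∨ 25920 ∣ Nat.card G := by
  obtain ⟨S, hN, hS, h1, hC⟩ := H366.AlmostSimple.exists_simple_normal (rad_of_core hO) fun A B hA hB h => by
    obtain ⟨a, ha, h2⟩ := exists_ord_of_not_solv h5 hA (r := 2) (by simp)
    obtain ⟨b, hb, h3⟩ := exists_ord_of_not_solv h5 hB (r := 5) (by simp)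
    refine h10 (a * b) ?_
    rw [Commute.orderOf_mul_eq_mul_orderOf_of_coprime (h a ha b hb) (by rw [h2, h3]; norm_num), h2, h3]
  have h2 := dvd_of_not_solv (fun r hr k => h5 r hr (k.trans S.card_subgroup_dvd_card)) h1
  have no : ∀ r n : ℕ, r.Prime → 5 < r → r ∣ n → Nat.card S ≠ n := fun r n hr k1 k2 k3 =>
    absurd (h5 r hr ((k3 ▸ k2).trans S.card_subgroup_dvd_card)) (by omega)
  rcases S3719.result (G := S) (fun h => h1 (IsSimpleGroup.comm_iff_isSolvable.1 h.is_comm.comm)) (by rw [h2]; rfl) with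
    ⟨⟨e⟩⟩ | ⟨⟨e⟩⟩ | ⟨F, _, _, hF, ⟨e⟩⟩ | ⟨F, _, _, hF, ⟨e⟩⟩ | ⟨F, _, _, hF, ⟨e⟩⟩ | ⟨F, _, _, hF, ⟨e⟩⟩
  · have h3 := card_dvd_aut hC e
    rw [← Nat.card_congr (Equiv.ofBijective _ (S2119.result 5 (by omega) (by omega))), Nat.card_perm, Nat.card_fin] at h3
    obtain ⟨x, y, h⟩ := tri_five
    have h4 := h.map e.symm.toMonoidHom e.symm.injective
    refine .inl ⟨h3, S, char_of_simple hS hC, hC, _, _, h4.map S.subtype S.subtype_injective, ?_⟩
    rw [← Set.image_pair, ← MonoidHom.map_closure, h4.top ((Nat.card_congr e.toEquiv).trans card_five),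
      ← MonoidHom.range_eq_map, range_subtype]
  · have h3 := card_dvd_aut hC e
    rw [H824.ProdLem.card_aut_a6] at h3
    obtain ⟨x, w, h4, h⟩ := tri_six
    have hf : Function.Injective (S.subtype.comp e.symm.toMonoidHom) := S.subtype_injective.comp e.symm.injective
    exact .inr (.inl ⟨((Nat.card_congr e.toEquiv).trans card_six) ▸ S.card_subgroup_dvd_card, h3, _, _,
      (orderOf_injective _ hf w).trans h4, map_pow (S.subtype.comp e.symm.toMonoidHom) w 2 ▸ h.map _ hf⟩)
  · exfalso
    have hc := Nat.card_congr e.toEquiv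
    rcases hF with hF | hF | hF <;> have h := S0243.result hF 2 le_rfl <;> rw [← hc] at h <;>
      simp only [Fin.prod_univ_two] at h <;> norm_num at h
    · exact no 7 168 (by norm_num) (by norm_num) (by norm_num) (by omega)
    · exact no 7 504 (by norm_num) (by norm_num) (by norm_num) (by omega)
    · exact no 17 2448 (by norm_num) (by norm_num) (by norm_num) (by omega)
  · exfalso
    have hc := Nat.card_congr e.toEquiv
    have h := S0243.result hF 3 (by norm_num)
    rw [← hc] at h
    simp only [Fin.prod_univ_three] at h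
    norm_num at h
    exact no 13 5616 (by norm_num) (by norm_num) (by norm_num) (by omega)
  · have hc := Nat.card_congr e.toEquiv
    rw [SmallSimple.PSLFacts.card_psu_three_three hF] at hc
    exact absurd hc (no 7 6048 (by norm_num) (by norm_num) (by norm_num))
  · exact .inr (.inr (((Nat.card_congr e.toEquiv).trans (H93.ThreeNine.card_psu_four_two hF)) ▸
      S.card_subgroup_dvd_card))

/-- a triple which generates a characteristic subgroup with trivial centraliser -/
theorem free_of_mi {T : Type*} [Group T] [Finite T] [IsSimpleGroup T] (hn : ¬ IsMulCommutative T) {A : Subgroup T}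
    {Γ : Subgroup (MulAut T)} (h : MI A Γ) {S : Subgroup A} (hS : S.Characteristic) (hC : centralizer (S : Set A) = ⊥)
    {x y : A} (hx : x ≠ 1) (e : Subgroup.closure {x, y} = S) {g : T} (h1 : g * x = x * g) (h2 : g * y = y * g) : g = 1 := by
  have h3 : g ∈ centralizer (S.map A.subtype : Set T) := by
    rw [← e, MonoidHom.map_closure, Set.image_pair, centralizer_closure]
    rintro _ (rfl | rfl)
    exacts [h1.symm, h2.symm]
  have h4 : centralizer (S.map A.subtype : Set T) ≤ A := mi_le h (mi_char h S).centralizer fun k => by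
    have h5 : (x : T) ∈ center T := mem_center_iff.2 fun t =>
      (mem_centralizer_iff.1 (k.ge (mem_top t)) x ⟨x, e ▸ subset_closure (by simp), rfl⟩).symm
    rcases (inferInstance : (center T).Normal).eq_bot_or_eq_top with h6 | h6
    · exact hx (Subtype.ext (mem_bot.1 (h6 ▸ h5)))
    · exact hn ⟨⟨fun a b => mem_center_iff.1 (h6.ge (mem_top b)) a⟩⟩
  have h5 : (⟨g, h4 h3⟩ : A) ∈ centralizer (S : Set A) := mem_centralizer_iff.2 fun s hs =>
    Subtype.ext (mem_centralizer_iff.1 h3 s ⟨s, hs, rfl⟩)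
  rw [hC, mem_bot] at h5
  exact congrArg Subtype.val h5

end Cfsg.Agent.N2.Sp3
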