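import Cfsg.Agent.N2.Sp3.LyG
import Cfsg.Agent.N2.Sp3.Lyv0
import Cfsg.Agent.N2.Sp3.Lyv1
import Cfsg.Agent.N2.Sp3.Lyv2
import Cfsg.Agent.N2.Sp3.Lyv3
import Cfsg.Agent.N2.SpK.RA
import Cfsg.Agent.H621.Deg.Split
import Cfsg.Agent.S2076

/-!
# N2 (S3519), the row of Ly (helper23)
-/

set_option autoImplicit false
set_option Elab.async false
set_option maxHeartbeats 400000

namespace Cfsg.Agent.N2.Sp3.Ly

open Cfsg Cfsg.Agent.FP3 Cfsg.Agent.TAB.Eng Cfsg.Agent.TAB.Use Cfsg.Agent.SB.SporL Cfsg.Agent.TH.Spor Cfsg.Agent.N2.Sp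
open Cfsg.Agent.N2.Sp.Ly Cfsg.Agent.N2.Sp1 Cfsg.Agent.N2.Sp2 Subgroup

/-- the orders which are left by the first engine -/
def RES : List ℕ :=
  [30, 32, 36, 40, 45, 48, 50, 54, 60, 64, 72, 75, 80, 81, 90, 96, 100, 108, 120, 125, 128, 135, 144, 150, 160, 162,
    180, 192, 200, 216, 225, 240, 243, 250, 256, 270, 288, 300, 320, 324, 360, 375, 384, 400, 405, 432, 450, 480,
    486, 500, 540, 576, 600, 625, 640, 648, 675, 720, 729, 750, 768, 800, 810, 864, 900, 960, 972, 1000, 1080, 1125,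
    1152, 1200, 1215, 1250, 1280, 1296, 1350, 1440, 1458, 1500, 1600, 1620, 1728, 1800, 1875, 1920, 1944, 2000,
    2025, 2160, 2187, 2250, 2304, 2400, 2430, 2500, 2592, 2700, 2880, 2916, 3000, 3125, 3200, 3240, 3375, 3456,
    3600, 3645, 3750, 3840, 3888, 4000, 4050, 4320, 4374, 4500, 4800, 4860, 5000, 5184, 5400, 5625, 5760, 5832,
    6000, 6075, 6250, 6400, 6480, 6750, 6912, 7200, 7290, 7500, 7776, 8000, 8100, 8640, 8748, 9000, 9375, 9600,
    9720, 10000, 10125, 10368, 10800, 10935, 11250, 11520, 11664, 12000, 12150, 12500, 12960, 13500, 14400, 14580,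
    15000, 15552, 15625, 16000, 16200, 16875, 17280, 17496, 18000, 18225, 18750, 19200, 19440, 20000, 20250, 20736,
    21600, 21870, 22500, 23328, 24000, 24300, 25000, 25920, 27000, 28125, 28800, 29160, 30000, 30375, 31104, 31250,
    32000, 32400, 33750, 34560, 34992, 36000, 36450, 37500, 38880, 40000, 40500, 43200, 43740, 45000, 46656, 46875,
    48000, 48600, 50000, 50625, 51840, 54000, 54675, 56250, 57600, 58320, 60000, 60750, 62208, 62500, 64800, 67500,
    69984, 72000, 72900, 75000, 77760, 80000, 81000, 84375, 86400, 87480, 90000, 91125, 93312, 93750, 96000, 97200,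
    100000, 101250, 103680, 108000, 109350, 112500, 116640, 120000, 121500, 125000, 129600, 135000, 139968, 140625,
    144000, 145800, 150000, 151875, 155520, 160000, 162000, 168750, 172800, 174960, 180000, 182250, 186624, 187500,
    194400, 200000, 202500, 216000, 218700, 225000, 233280, 240000, 243000, 250000, 253125, 259200, 270000, 273375,
    279936, 281250, 288000, 291600, 300000, 303750, 311040, 324000, 337500, 349920, 360000, 364500, 375000, 388800,
    400000, 405000, 421875, 432000, 437400, 450000, 455625, 466560, 480000, 486000, 500000, 506250, 518400, 540000,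
    546750, 559872, 562500, 583200, 600000, 607500, 648000, 675000, 699840, 720000, 729000, 750000, 759375, 777600,
    800000, 810000, 843750, 864000, 874800, 900000, 911250, 933120, 972000, 1000000, 1012500, 1080000, 1093500,
    1125000, 1166400, 1200000, 1215000, 1265625, 1296000, 1350000, 1366875, 1399680, 1440000, 1458000, 1500000,
    1518750, 1555200, 1620000, 1687500, 1749600, 1800000, 1822500, 1944000, 2000000, 2025000, 2160000, 2187000,
    2250000, 2278125, 2332800, 2400000, 2430000, 2531250, 2592000, 2700000, 2733750, 2799360, 2916000, 3000000,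
    3037500, 3240000, 3375000, 3499200, 3600000, 3645000, 3796875, 3888000, 4000000, 4050000, 4320000, 4374000,
    4500000, 4556250, 4665600, 4860000, 5062500, 5400000, 5467500, 5832000, 6000000, 6075000]

/-- the types of prime order -/
def O3 : Sp.Out := [(1, 1, 162000), (2, 1, 162000), (3, 1, 162000), (5, 1, 162000)]

theorem okE : Sp2.chk D R nu O 6118280 [(2, 8), (3, 7), (5, 6)] RES [] = true := by decide +kernel

theorem okE3 : Sp2.chk D R nu O3 2025 [(2, 8), (3, 7), (5, 6)] [60, 1500] [] = true := by decide +kernel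

theorem okR : ∀ n ∈ RES, ∃ c ∈ [CL0, CL1, CL2, CL3], n ∈ c.map Prod.fst := by decide +kernel

/-- the order -/
def sm (s : ℕ × ℕ × ℕ × ℕ × ℕ) : ℕ := 1 + s.1 + s.2.1 + s.2.2.1 + s.2.2.2.1 + s.2.2.2.2

theorem okS : ∀ s ∈ SL, sm s ∣ 2 ^ 4 * 3 ^ 6 * 5 ^ 3 ∧ sm s ≠ 1500 ∧ (s.2.2.2.2 = 0 → sm s ≤ 2025) ∧
    (sm s = 60 ∨ sm s ∣ 120 ∧ s.2.2.2.2 ≠ 0 → s.2.2.1 = 0) := by decide +kernel

variable {K : Type} [Group K] [Finite K] [IsSimpleGroup K] {T : TD K D} {A : Subgroup K} {Γ : Subgroup (MulAut K)}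

theorem vec (H : Hy T R nu) (hU : Unif T) (hn : ¬ IsMulCommutative K) (ho : (N2.Inn K).index ≤ 2) (hm : MI A Γ)
    (hb : ¬ Good A) : ∃ s ∈ SL, Vec T A (mk s) := by
  have hr := res H hb hm.ne_top
  obtain ⟨c, h1, h2⟩ := okR _ (main H hU hn ho hm hb hr okE)
  have h3 : chkB D R nu O2 SOL c = true := by
    simp only [List.mem_cons, List.not_mem_nil, or_false] at h1
    rcases h1 with rfl | rfl | rfl | rfl
    exacts [ok0, ok1, ok2, ok3]
  obtain ⟨v, h4, h5⟩ := bad H hb (res_perm hr (by decide +kernel)) h3 h2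
  obtain ⟨s, h6, rfl⟩ := List.mem_map.1 h4
  exact ⟨s, h6, h5⟩

theorem ntd_mk (s : ℕ × ℕ × ℕ × ℕ × ℕ) (t : ℕ) (h : ntd (mk s) 0 t ≠ 0) : t ∈ [0, 1, 2, 3, 5, 7] := by
  match t with
  | 0 | 1 | 2 | 3 | 5 | 7 => simp
  | 4 | 6 | t + 8 => exact absurd rfl h

omit [IsSimpleGroup K] in
theorem card_mk {s : ℕ × ℕ × ℕ × ℕ × ℕ} (h : Vec T A (mk s)) : Nat.card A = sm s := by
  rw [card_eq_sum (T := T) A, Finset.sum_congr rfl fun t ht => h t (Finset.mem_range.1 ht), show D.n = 8 + 31 from rfl,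
    Finset.sum_range_add, Finset.sum_eq_zero (s := Finset.range 31) fun t _ => by rw [add_comm]; rfl]
  simp only [Finset.sum_range_succ, Finset.sum_range_zero, zero_add, add_zero]
  rfl

theorem dead (H : Hy T R nu) (hU : Unif T) (hn : ¬ IsMulCommutative K) (ho : (N2.Inn K).index ≤ 2) (h4 : Root4 K)
    (hm : MI A Γ) (hc : IsCoatom A) (hb : ¬ Good A) : False := by
  obtain ⟨s, hs, h⟩ := vec H hU hn ho hm hb
  obtain ⟨h1, h2, h3, h5⟩ := okS s hs
  rw [← card_mk h] at h1 h2 h3 h5
  have ty : ∀ a ∈ A, T.ty a ∈ [0, 1, 2, 3, 5, 7] := fun a ha => ntd_mk s _ (vec_ne h ha)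
  have ord : ∀ a ∈ A, orderOf a ∣ 6 ∨ orderOf a = 5 := fun a ha => by
    have k := ty a ha
    rw [T.ord]
    generalize T.ty a = t at k
    revert t
    decide +kernel
  have no : ∀ n, ¬ (n ∣ 6 ∨ n = 5) → ∀ a : A, orderOf a ≠ n := fun n k a e => k (e ▸ orderOf_coe a ▸ ord a a.2)
  have pr := primes_le (m := 6) (h1.trans (by norm_num))
  have ind : ∀ p F : ℕ, p.Prime → p ^ F ∣ D.N → ¬ p ^ F ∣ 2 ^ 4 * 3 ^ 6 * 5 ^ 3 → p ∣ A.index := fun p F hp k1 k2 => by
    by_contra k3
    rw [← H.mass.1, ← A.index_mul_card] at k1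
    exact k2 ((Nat.Coprime.dvd_of_dvd_mul_left (Nat.Coprime.pow_left _ (hp.coprime_iff_not_dvd.2 k3)) k1).trans h1)
  have h6 : Nat.card A ≤ 1458000 := Nat.le_of_dvd (by norm_num) h1
  have two : pCore 2 A = ⊥ := by_contra fun h0 =>
    two_local hn h4 hm hc h0 (ind 2 5 Nat.prime_two (by decide +kernel) (by norm_num))
      (fun k => absurd (k.trans h1) (by norm_num)) pr (no 4 (by norm_num)) (no 10 (by norm_num)) fun z hz => by
        have k1 := le_cn H.mass z
        have k2 : T.ty z = 1 := by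
          have k3 := T.lt z
          rw [T.ord] at hz
          generalize T.ty z = t at k3 hz
          revert t
          decide +kernel
        rw [k2, show D.N = 51765179004000000 from rfl, show D.cnt 1 = 1296826875 from rfl] at k1
        omega
  have three : pCore 3 A = ⊥ := by_contra fun h0 => by
    obtain ⟨a, ha, k⟩ := Sp4T.exists_ord Nat.prime_three (Lib.Cores.pCore_isPGroup (G := A) 3) h0
    refine Sp4.zj hm (k ▸ orderOf_dvd_natCard a) (Sp4.hc_of fun z hz => Sp4.cent_three hm h0 two (fun b hb r _ k1 k2 => ?_) hz)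
      (fun b hb => orderOf_mk b hb ▸ no 4 (by norm_num) ⟨b, hb⟩) (ind 3 7 Nat.prime_three (by decide +kernel) (by norm_num))
    rcases ord b hb with e | e
    · have := Nat.le_of_dvd (by norm_num) e
      omega
    · omega
  have h7 : Nat.card A = 60 ∨ s.2.2.2.2 ≠ 0 := or_iff_not_imp_right.2 fun e => by
    have e := not_not.1 e
    have k := main H hU hn ho hm hb (O := O3) (U := 2025) ⟨h3 e, fun a ha => by
      have k1 := ty a ha
      have k2 : T.ty a ≠ 7 := fun k => vec_ne h ha (k ▸ e)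
      have k3 : 1 ≤ Nat.card A := Nat.card_pos
      have k4 : Nat.card A ≤ 162000 := (h3 e).trans (by norm_num)
      simp only [List.mem_cons, List.not_mem_nil, or_false] at k1
      rcases k1 with k1 | k1 | k1 | k1 | k1 | k1
      exacts [.inl k1, .inr ⟨(1, 1, 162000), by simp [O3], k1, k3, k4⟩, .inr ⟨(2, 1, 162000), by simp [O3], k1, k3, k4⟩,
        .inr ⟨(3, 1, 162000), by simp [O3], k1, k3, k4⟩, .inr ⟨(5, 1, 162000), by simp [O3], k1, k3, k4⟩, absurd k1 k2]⟩ okE3
    simpa [h2] using k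
  have h8 : 2 ∣ Nat.card A := h7.elim (fun e => by omega) fun e => by
    obtain ⟨a, ha, k⟩ := vec_ex h (t := 7) (by decide) e
    exact (show 2 ∣ orderOf a by rw [T.ord, k]; decide).trans (A.orderOf_dvd_natCard ha)
  have five : pCore 5 A = ⊥ := by_contra fun h0 => by
    have h55 : Nat.Prime 5 := by norm_num
    have := Fact.mk h55
    obtain ⟨P⟩ : Nonempty (Sylow 5 A) := inferInstance
    have := normal_five h0 pr h8 (no 10 (by norm_num)) (no 15 (by norm_num)) P
    obtain ⟨a, ha, k⟩ := Sp4T.exists_ord h55 (Lib.Cores.pCore_isPGroup (G := A) 5) h0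
    exact not_dvd_of_norm P (norm_of_normal hm P (k ▸ orderOf_dvd_natCard a))
      (ind 5 4 h55 (by decide +kernel) (by norm_num))
  have := (nontrivial_iff_ne_bot A).2 hm.ne_bot
  rcases k3 (G := A) (fun p hp => by_contra fun h0 => by
      obtain ⟨a, ha, k⟩ := Sp4T.exists_ord hp (Lib.Cores.pCore_isPGroup (G := A) p) h0
      have k1 := pr p hp (k ▸ orderOf_dvd_natCard a)
      have k2 := hp.two_le
      interval_cases p
      exacts [h0 two, h0 three, absurd hp (by norm_num), h0 five]) pr (no 10 (by norm_num)) with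
    ⟨k1, S, k2, k3, x, y, k4, k5⟩ | ⟨-, -, x, w, k1, -⟩ | k1
  · have k6 := h5 (h7.imp id fun e => ⟨k1, e⟩)
    have k7 := k4.map A.subtype A.subtype_injective
    have k8 := cn_mul_le fun g => free_of_mi hn hm k2 k3 (fun e => by
      have := k4.1; rw [e, orderOf_one] at this; omega) k5 (g := g)
    have k9 : T.ty x = 2 := by
      have e1 := ty x x.2
      have e2 : T.ty x ≠ 3 := fun k => vec_ne h x.2 (k ▸ k6)
      have e3 := (T.ord x).symm.trans k7.1
      generalize T.ty x = t at e1 e2 e3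
      revert t
      decide +kernel
    have k10 : T.ty y = 1 := by
      have e1 := ty y y.2
      have e3 := (T.ord y).symm.trans k7.2.1
      generalize T.ty y = t at e1 e3
      revert t
      decide +kernel
    have e1 := le_cn H.mass x
    have e2 := le_cn H.mass y
    rw [k9, show D.cnt 2 = 19212250 from rfl] at e1
    rw [k10, show D.cnt 1 = 1296826875 from rfl] at e2
    rw [H.mass.1] at k8
    rw [show D.N = 51765179004000000 from rfl] at e1 e2 k8
    have e3 : 2694384000 ≤ cn (x : K) := by omega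
    have e4 : 39916800 ≤ cn (y : K) := by omega
    have e5 := Nat.mul_le_mul e4 e3
    omega
  · exact no 4 (by norm_num) w k1
  · exact absurd (k1.trans h1) (by norm_num)

end Cfsg.Agent.N2.Sp3.Ly

namespace Cfsg.Agent.N2.Sp3

open Cfsg Cfsg.Agent.FP3 Cfsg.Agent.N2.Sp

/-- **the row of Ly** -/
theorem row_Ly {K : Type} [Group K] [Finite K] [IsSimpleGroup K] (hn : ¬ IsMulCommutative K) (h : Spor.IsoLy K) :
    ASRow K := fun _ _ hm => by_contra fun hb => by
  obtain ⟨T, H, hU, -⟩ := hy_of (SpK.inK_ly h) Sp.Ly.okz (ν := Sp.Ly.nu) (by decide +kernel)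
  have h1 := H621.Deg.index_le_two (K := K) (.inr (.inr (by simp only [IsSporadicGroup, h, true_or, or_true])))
  obtain ⟨e⟩ := h
  obtain ⟨L⟩ := TypeM.FactsLy.exists_mt_ly
  exact Ly.dead H hU hn h1 ((root4_of L).of_equiv e) hm (coatom_of_mi (Sp4T.out_congr e S2076.result) hm) hb

end Cfsg.Agent.N2.Sp3
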