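import Cfsg.Agent.TypeM.FactsLy
import Cfsg.Agent.N2.Sp4.Gen
import Cfsg.Agent.N2.Sp4.F3
import Cfsg.Agent.N2.Sp3.Epx
import Cfsg.Agent.N2.Sp3.Gen

/-!
# N2 (S3519), the row of Ly: the group theory (helper23)
-/

set_option autoImplicit false
set_option maxHeartbeats 400000
set_option linter.unusedSectionVars false

namespace Cfsg.Agent.N2.Sp3

open Cfsg Cfsg.Agent.FP3 Cfsg.Agent.N2.Sp2 Cfsg.Agent.N2.Sp4T Subgroup Equiv

theorem ct_two {α : Type*} [Fintype α] [DecidableEq α] {σ : Perm α} (h : orderOf σ = 2) :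
    ∃ k, σ.cycleType = Multiset.replicate (k + 1) 2 ∧ σ.support.card = (k + 1) * 2 := by
  obtain ⟨k, hk⟩ := Perm.cycleType_prime_order (σ := σ) (h ▸ Nat.prime_two)
  rw [h] at hk
  exact ⟨k, hk, by rw [← Perm.sum_cycleType, hk, Multiset.sum_replicate, smul_eq_mul]⟩

theorem conj_two {α : Type*} [Fintype α] [DecidableEq α] {σ τ : Perm α} (h : orderOf σ = 2) (h' : orderOf τ = 2)
    (e : σ.support.card = τ.support.card) : IsConj σ τ := by
  obtain ⟨k, h1, h2⟩ := ct_two h
  obtain ⟨l, h3, h4⟩ := ct_two h'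
  rw [Perm.isConj_iff_cycleType_eq, h1, h3, show k = l by omega]

/-- the involutions of `A₁₁` are squares -/
theorem sq_eleven {σ : Perm (Fin 11)} (h : orderOf σ = 2) (hs : Perm.sign σ = 1) :
    ∃ ρ : Perm (Fin 11), Perm.sign ρ = 1 ∧ ρ * ρ = σ := by
  have key : ∀ ρ : Perm (Fin 11), Perm.sign ρ = 1 → (ρ * ρ) ^ 2 = 1 → ρ * ρ ≠ 1 → (ρ * ρ).support.card = σ.support.card →
      ∃ ρ : Perm (Fin 11), Perm.sign ρ = 1 ∧ ρ * ρ = σ := fun ρ h1 h2 h3 h4 => by
    obtain ⟨g, rfl⟩ := isConj_iff.1 (conj_two (orderOf_eq_prime h2 h3) h h4)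
    exact ⟨g * ρ * g⁻¹, by rw [Perm.sign_mul, Perm.sign_mul, h1, mul_one, ← Perm.sign_mul, mul_inv_cancel, Perm.sign_one],
      by group⟩
  obtain ⟨k, h1, h2⟩ := ct_two h
  have h3 := σ.support.card_le_univ
  rw [Perm.sign_of_cycleType, h1, Multiset.sum_replicate, Multiset.card_replicate, smul_eq_mul] at hs
  rw [Fintype.card_fin] at h3
  have h4 : k < 5 := by omega
  interval_cases k
  · exact absurd hs (by decide)
  · exact key (swap 0 2 * swap 2 1 * swap 1 3 * swap 4 5) (by decide +kernel) (by decide +kernel) (by decide +kernel)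
      (by rw [h2]; decide +kernel)
  · exact absurd hs (by decide)
  · exact key (swap 0 2 * swap 2 1 * swap 1 3 * (swap 4 6 * swap 6 5 * swap 5 7)) (by decide +kernel) (by decide +kernel)
      (by decide +kernel) (by rw [h2]; decide +kernel)
  · exact absurd hs (by decide)

/-- every four-group is centralised by an element of order four -/
def Root4 (G : Type*) [Group G] : Prop :=
  ∀ z s : G, orderOf z = 2 → orderOf s = 2 → z * s = s * z → s ≠ z → ∃ u, u * z = z * u ∧ u * s = s * u ∧ orderOf u = 4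

theorem root4_of {G : Type*} [Group G] (L : TypeM.Two.MT 11 G) : Root4 G := fun z s hz hs hc hne => by
  obtain ⟨h1, h2⟩ := TypeM.Two.MT.sq_of_orderOf hz
  obtain ⟨h3, h4⟩ := TypeM.Two.MT.sq_of_orderOf hs
  obtain ⟨L, rfl⟩ := L.exists_rebase h1 h2
  let s' : centralizer ({L.t} : Set G) := ⟨s, L.mem_iff.2 hc.symm⟩
  have h5 : L.K.π s' ≠ 1 := fun e => ((L.K.ker s').1 e).elim (fun e => h4 (congrArg Subtype.val e))
    fun e => hne ((congrArg Subtype.val e).trans L.hz)
  have h6 : s' * s' = 1 := Subtype.ext h3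
  obtain ⟨ρ, h7, h8⟩ := sq_eleven (σ := L.K.π s') (orderOf_eq_prime (by rw [pow_two, ← map_mul, h6, map_one]) h5)
    (Perm.mem_alternatingGroup.1 (L.K.range_eq ▸ ⟨s', rfl⟩))
  obtain ⟨u, rfl⟩ : ρ ∈ L.K.π.range := L.K.range_eq.symm ▸ Perm.mem_alternatingGroup.2 h7
  have h9 := L.mem_iff.1 u.2
  have h10 : (u : G) * u = s ∨ (u : G) * u = L.t * s := by
    refine ((L.K.ker (u * u * s'⁻¹)).1 (by rw [map_mul, map_mul, h8, map_inv, mul_inv_cancel])).imp (fun e => ?_) fun e => ?_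
    · exact congrArg Subtype.val (mul_inv_eq_one.1 e)
    · exact (congrArg Subtype.val (mul_inv_eq_iff_eq_mul.1 e)).trans (congrArg (· * s) L.hz)
  have h11 : L.t * s * (L.t * s) = 1 := by rw [mul_assoc, ← mul_assoc s, ← hc, mul_assoc, h3, mul_one, h1]
  refine ⟨u, h9, ?_, orderOf_eq_prime_pow (p := 2) (n := 1) ?_ ?_⟩
  · rcases h10 with e | e
    · rw [← e, mul_assoc]
    · rw [← mul_right_inj L.t, ← mul_assoc, ← h9, mul_assoc, ← mul_assoc L.t s, ← e, mul_assoc]
  · rw [pow_one, pow_two]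
    rcases h10 with e | e <;> rw [e]
    · exact h4
    · exact fun k => hne (by rw [← mul_right_inj L.t, k, h1])
  · rw [show 2 ^ (1 + 1) = 2 * 2 from rfl, pow_mul, pow_two, pow_two]
    rcases h10 with e | e <;> rw [e]
    exacts [h3, h11]

theorem Root4.of_equiv {G H : Type*} [Group G] [Group H] (h : Root4 H) (e : G ≃* H) : Root4 G := fun z s hz hs hc hne => by
  obtain ⟨u, h1, h2, h3⟩ := h (e z) (e s) (by rw [e.orderOf_eq, hz]) (by rw [e.orderOf_eq, hs])
    (by rw [← map_mul, hc, map_mul]) fun k => hne (e.injective k)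
  exact ⟨e.symm u, e.injective (by simpa using h1), e.injective (by simpa using h2), by rw [e.symm.orderOf_eq, h3]⟩

section
variable {G : Type*} [Group G] [Finite G]

theorem sq_one (n4 : ∀ a : G, orderOf a ≠ 4) {P : Subgroup G} (hP : IsPGroup 2 P) {x : G} (hx : x ∈ P) : x * x = 1 := by
  have := Fact.mk Nat.prime_two
  obtain ⟨k, hk⟩ := IsPGroup.iff_orderOf.1 hP ⟨x, hx⟩
  rw [orderOf_mk] at hk
  rw [← pow_two, ← orderOf_dvd_iff_pow_eq_one, hk]
  match k with
  | 0 => exact one_dvd _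
  | 1 => exact dvd_rfl
  | k + 2 =>
    obtain ⟨j, hj⟩ := Sp4.exists_four (a := x) (by rw [hk, pow_add]; exact Dvd.intro_left _ rfl)
    exact absurd hj (n4 _)

/-- a normal subgroup of order eight has a central involution -/
theorem central_of_eight (n4 : ∀ a : G, orderOf a ≠ 4) (h23 : ∀ r : ℕ, r.Prime → r ∣ Nat.card G → r = 2 ∨ r = 3)
    {Q : Subgroup G} [Q.Normal] (hQ : Nat.card Q = 8) : ∃ z ∈ Q, z ≠ 1 ∧ z ∈ center G := by
  have := Fact.mk Nat.prime_two
  have := Fact.mk Nat.prime_three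
  have h2 : IsPGroup 2 Q := IsPGroup.of_card (n := 3) hQ
  obtain ⟨P⟩ : Nonempty (Sylow 3 G) := inferInstance
  obtain ⟨S⟩ : Nonempty (Sylow 2 G) := inferInstance
  have hS := ab_of_two (S : Subgroup G) fun x hx => sq_one n4 S.isPGroup' hx
  have h3 : Q ≤ S := h2.le_sylow_of_normal S
  let φ : P →* MulAut Q := (MulAut.conjNormal (H := Q)).comp (P : Subgroup G).subtype
  let _ : MulAction P Q := MulAction.compHom Q φ
  have h4 := P.isPGroup'.card_modEq_card_fixedPoints Q
  have h5 : 1 < Nat.card (MulAction.fixedPoints P Q) := by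
    have : Nonempty (MulAction.fixedPoints P Q) := ⟨⟨1, fun g => map_one (φ g)⟩⟩
    have h5 : 0 < Nat.card (MulAction.fixedPoints P Q) := Nat.card_pos
    rw [hQ, Nat.ModEq] at h4
    omega
  obtain ⟨⟨⟨z, h6⟩, h7⟩, h8⟩ := @exists_ne _ (Finite.one_lt_card_iff_nontrivial.1 h5) ⟨1, fun g => map_one (φ g)⟩
  refine ⟨z, h6, fun e => h8 (Subtype.ext (Subtype.ext e)), ?_⟩
  have h9 : centralizer ({z} : Set G) = ⊤ := by
    rw [← index_eq_one]
    by_contra h9
    obtain ⟨r, hr, h10⟩ := Nat.exists_prime_and_dvd h9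
    rcases h23 r hr (h10.trans (index_dvd_card _)) with rfl | rfl
    · exact S.not_dvd_index (h10.trans (index_dvd_of_le fun x hx => mem_centralizer_singleton_iff.2
        (congrArg Subtype.val (hS.is_comm.comm (⟨x, hx⟩ : (S : Subgroup G)) ⟨z, h3 h6⟩))))
    · exact P.not_dvd_index (h10.trans (index_dvd_of_le fun x hx => mem_centralizer_singleton_iff.2
        (mul_inv_eq_iff_eq_mul.1 (congrArg Subtype.val (h7 ⟨x, hx⟩)))))
  exact mem_center_iff.2 fun g => mem_centralizer_singleton_iff.1 (h9.ge (mem_top g))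

/-- an involution which commutes with no element of order five -/
theorem normal_five (h0 : pCore 5 G ≠ ⊥) (h5 : ∀ r : ℕ, r.Prime → r ∣ Nat.card G → r ≤ 5) (h2 : 2 ∣ Nat.card G)
    (n10 : ∀ a : G, orderOf a ≠ 10) (n15 : ∀ a : G, orderOf a ≠ 15) (P : Sylow 5 G) : (P : Subgroup G).Normal := by
  have h55 : Nat.Prime 5 := by norm_num
  have := Fact.mk h55
  have := Fact.mk Nat.prime_two
  have hQ := Lib.Cores.pCore_isPGroup (G := G) 5
  have no : ∀ (a : G) (r : ℕ), r = 2 ∨ r = 3 → ¬ r * 5 ∣ orderOf a := fun a r hr k => by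
    have h := orderOf_pow_orderOf_div (orderOf_pos a).ne' k
    rcases hr with rfl | rfl
    exacts [n10 _ h, n15 _ h]
  have fpf : ∀ (a : G) (r : ℕ), r = 2 ∨ r = 3 → orderOf a = r → ∀ x ∈ pCore 5 G, Commute a x → x = 1 :=
    fun a r hr ha x hx hc => by_contra fun e => by
      obtain ⟨k, hk⟩ := IsPGroup.iff_orderOf.1 hQ ⟨x, hx⟩
      rw [orderOf_mk] at hk
      refine no (a * x) r hr ?_
      rw [hc.orderOf_mul_eq_mul_orderOf_of_coprime (by
        rw [ha, hk]; rcases hr with rfl | rfl <;> exact Nat.Coprime.pow_right _ (by norm_num)), ha]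
      exact Nat.mul_dvd_mul_left _ (dvd_ord h55 hQ hx e)
  obtain ⟨u, hu⟩ := exists_prime_orderOf_dvd_card' 2 h2
  let φ : G →* MulAut (pCore 5 G) := MulAut.conjNormal
  have h3 : MonoidHom.FixedPointFree (φ u) := fun y hy => Subtype.ext
    (fpf u 2 (.inl rfl) hu y y.2 (mul_inv_eq_iff_eq_mul.1 (congrArg Subtype.val hy :)))
  have h4 := congrFun (h3.coe_eq_inv_of_involutive fun y => by
    rw [← MulAut.mul_apply, ← map_mul, ← pow_two, ← hu, pow_orderOf_eq_one, map_one, MulAut.one_apply])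
  obtain ⟨⟨x, hx⟩, h6⟩ := ne_bot_iff_exists_ne_one.1 h0
  have h7 : orderOf (φ u) = 2 := ((Nat.dvd_prime Nat.prime_two).1 (hu ▸ orderOf_map_dvd φ u)).resolve_left fun e =>
    h6 (h3 _ (MulEquiv.congr_fun (orderOf_eq_one_iff.1 e) _))
  have h8 : IsPGroup 5 (centralizer (pCore 5 G : Set G)) := pgrp_of fun c hc r hr hd => by_contra fun e => by
    have k1 := orderOf_pow_orderOf_div (orderOf_pos c).ne' hd
    have k2 := h5 r hr (hd.trans (orderOf_dvd_natCard c))
    have k3 := hr.two_le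
    have k4 : r ≠ 4 := fun e => by rw [e] at hr; norm_num at hr
    exact h6 (Subtype.ext (fpf _ r (by omega) k1 x hx (mem_centralizer_iff.1 (pow_mem hc _) x hx).symm))
  rw [← P.is_maximal' h8 fun g hg => ?_]
  · infer_instance
  have h9 : φ g = 1 := by_contra fun h9 => by
    obtain ⟨k, hk⟩ := IsPGroup.iff_orderOf.1 P.isPGroup' ⟨g, hg⟩
    rw [orderOf_mk] at hk
    obtain ⟨j, -, hj⟩ := (Nat.dvd_prime_pow h55).1 (hk ▸ orderOf_map_dvd φ g)
    have k1 : Commute (φ u) (φ g) := MulEquiv.ext fun x => by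
      rw [MulAut.mul_apply, MulAut.mul_apply, h4, h4, map_inv]
    have k2 := orderOf_map_dvd φ (u * g)
    rw [map_mul, k1.orderOf_mul_eq_mul_orderOf_of_coprime (by
      rw [h7, hj]; exact Nat.Coprime.pow_right _ (by norm_num)), h7, hj] at k2
    exact no _ 2 (.inl rfl) ((Nat.mul_dvd_mul_left _ (dvd_pow_self 5 fun e => h9 (orderOf_eq_one_iff.1
      (by rw [hj, e, pow_zero])))).trans k2)
  exact mem_centralizer_iff.2 fun x hx =>
    (mul_inv_eq_iff_eq_mul.1 (congrArg Subtype.val (MulEquiv.congr_fun h9 ⟨x, hx⟩) :)).symm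

end

variable {K : Type} [Group K] [Finite K] [IsSimpleGroup K] {A : Subgroup K} {Γ : Subgroup (MulAut K)}

/-- **the `2`-local case** -/
theorem two_local (hn : ¬ IsMulCommutative K) (h4 : Root4 K) (hm : MI A Γ) (hc : IsCoatom A) (h0 : pCore 2 A ≠ ⊥)
    (hi : 2 ∣ A.index) (h32 : ¬ 32 ∣ Nat.card A) (h5 : ∀ r : ℕ, r.Prime → r ∣ Nat.card A → r ≤ 5)
    (n4 : ∀ a : A, orderOf a ≠ 4) (n10 : ∀ a : A, orderOf a ≠ 10) (hz : ∀ z : K, orderOf z = 2 → Nat.card A < cn z) :
    False := by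
  classical
  have := Fact.mk Nat.prime_two
  have hQ := Lib.Cores.pCore_isPGroup (G := A) 2
  have hce : ∀ z ∈ pCore 2 A, z ≠ 1 → z ∉ center A := fun z h1 h2 h3 => by
    have k1 : orderOf (z : K) = 2 := by
      rw [orderOf_coe]
      exact orderOf_eq_prime (by rw [pow_two, sq_one n4 hQ h1]) h2
    have k2 : A ≤ centralizer {(z : K)} := fun a ha =>
      mem_centralizer_singleton_iff.2 (congrArg Subtype.val (mem_center_iff.1 h3 ⟨a, ha⟩))
    rcases k2.eq_or_lt with e | e
    · exact (hz z k1).ne (congrArg (fun H : Subgroup K => Nat.card H) e)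
    · have k3 : (z : K) ∈ center K := mem_center_iff.2 fun g =>
        mem_centralizer_singleton_iff.1 ((hc.2 _ e).ge (mem_top g))
      rcases (inferInstance : (center K).Normal).eq_bot_or_eq_top with k4 | k4
      · exact h2 (Subtype.ext (mem_bot.1 (k4 ▸ k3)))
      · exact hn ⟨⟨fun a b => mem_center_iff.1 (k4.ge (mem_top b)) a⟩⟩
  obtain ⟨k, hk⟩ := IsPGroup.iff_card.1 hQ
  have h6 := (pCore 2 A).card_subgroup_dvd_card
  have h7 : k < 5 := not_le.1 fun e => h32 ((pow_dvd_pow 2 e).trans (hk ▸ h6))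
  have h8 : k ≠ 0 := fun e => h0 (card_eq_one.1 (by rw [hk, e, pow_zero]))
  obtain ⟨⟨z, z1⟩, z2⟩ := ne_bot_iff_exists_ne_one.1 h0
  have z3 : z ≠ 1 := fun e => z2 (Subtype.ext e)
  have ord : ∀ x ∈ pCore 2 A, x ≠ 1 → orderOf x = 2 := fun x hx e =>
    orderOf_eq_prime (by rw [pow_two, sq_one n4 hQ hx]) e
  have hzp : zpowers z ≤ pCore 2 A := zpowers_le.2 z1
  have mem2 : ∀ x ∈ zpowers z, x = 1 ∨ x = z := fun x hx => by
    rw [mem_zpowers_iff_mem_range_orderOf, ord z z1 z3] at hx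
    obtain ⟨i, hi, rfl⟩ := Finset.mem_image.1 hx
    have := Finset.mem_range.1 hi
    interval_cases i <;> simp
  interval_cases k
  · exact h8 rfl
  · refine hce z z1 z3 (mem_center_iff.2 fun g => ?_)
    have k1 : zpowers z = pCore 2 A := eq_of_le_of_card_ge hzp (by rw [hk, Nat.card_zpowers, ord z z1 z3]; rfl)
    exact mul_inv_eq_iff_eq_mul.1 ((mem2 _ (k1 ▸ Normal.conj_mem inferInstance z z1 g)).resolve_left fun e =>
      z3 (by simpa using e))
  · obtain ⟨s, s1, s2⟩ := SetLike.exists_of_lt (hzp.lt_of_ne fun e => by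
      rw [← e, Nat.card_zpowers, ord z z1 z3] at hk; omega)
    have s3 : s ≠ 1 := fun e => s2 (e ▸ one_mem _)
    have s4 : z * s = s * z := congrArg Subtype.val
      ((ab_of_two _ fun x hx => sq_one n4 hQ hx).is_comm.comm (⟨z, z1⟩ : pCore 2 A) ⟨s, s1⟩)
    obtain ⟨u, u1, u2, u3⟩ := h4 z s (by rw [orderOf_coe, ord z z1 z3]) (by rw [orderOf_coe, ord s s1 s3])
      (congrArg Subtype.val s4) fun e => s2 (Subtype.ext e ▸ mem_zpowers z)
    have k1 : zpowers z ⊔ zpowers s = pCore 2 A := by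
      have k1 : zpowers z < zpowers z ⊔ zpowers s := le_sup_left.lt_of_ne fun e => s2 (e ▸ mem_sup_right (mem_zpowers s))
      have k2 : zpowers z ⊔ zpowers s ≤ pCore 2 A := sup_le hzp (zpowers_le.2 s1)
      have k3 := card_dvd_of_le k2
      have k4 : Nat.card (zpowers z) < Nat.card ↥(zpowers z ⊔ zpowers s) :=
        not_le.1 fun e => k1.ne (eq_of_le_of_card_ge k1.le e)
      rw [Nat.card_zpowers, ord z z1 z3] at k4
      rw [hk] at k3
      refine eq_of_le_of_card_ge k2 ?_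
      obtain ⟨j, j1, j2⟩ := (Nat.dvd_prime_pow Nat.prime_two).1 k3
      rw [j2] at k4
      rw [hk, j2]
      interval_cases j <;> simp_all
    have k2 : u ∈ A := Sp4.cent_core_le hm h0 (mem_centralizer_iff.2 (by
      rintro _ ⟨x, hx, rfl⟩
      rw [← k1] at hx
      have k2 : zpowers z ⊔ zpowers s ≤ (centralizer {u}).comap A.subtype := sup_le
        (zpowers_le.2 (mem_centralizer_singleton_iff.2 u1.symm)) (zpowers_le.2 (mem_centralizer_singleton_iff.2 u2.symm))
      exact mem_centralizer_singleton_iff.1 (k2 hx)))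
    exact n4 ⟨u, k2⟩ (by rw [orderOf_mk, u3])
  · obtain ⟨y, y1, y2, y3⟩ := central_of_eight n4 (fun r hr hd => by
      have k2 := h5 r hr hd
      have k3 := hr.two_le
      have k4 : r ≠ 4 := fun e => by rw [e] at hr; norm_num at hr
      have k5 : r ≠ 5 := fun e => by
        subst e
        have := Fact.mk hr
        obtain ⟨u, hu⟩ := exists_prime_orderOf_dvd_card' 5 hd
        let φ : zpowers u →* MulAut (pCore 2 A) := (MulAut.conjNormal (H := pCore 2 A)).comp (zpowers u).subtype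
        let _ : MulAction (zpowers u) (pCore 2 A) := MulAction.compHom _ φ
        have k5 := (IsPGroup.of_card (n := 1) (by rw [Nat.card_zpowers, hu, pow_one]) :
          IsPGroup 5 (zpowers u)).card_modEq_card_fixedPoints (pCore 2 A)
        have k6 : 1 < Nat.card (MulAction.fixedPoints (zpowers u) (pCore 2 A)) := by
          have : Nonempty (MulAction.fixedPoints (zpowers u) (pCore 2 A)) := ⟨⟨1, fun g => map_one (φ g)⟩⟩
          have k6 : 0 < Nat.card (MulAction.fixedPoints (zpowers u) (pCore 2 A)) := Nat.card_pos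
          rw [hk, Nat.ModEq] at k5
          omega
        obtain ⟨⟨⟨x, x1⟩, x2⟩, x3⟩ := @exists_ne _ (Finite.one_lt_card_iff_nontrivial.1 k6) ⟨1, fun g => map_one (φ g)⟩
        have x4 : Commute u x := mul_inv_eq_iff_eq_mul.1 (congrArg Subtype.val (x2 ⟨u, mem_zpowers u⟩))
        have x5 := ord x x1 fun e => x3 (Subtype.ext (Subtype.ext e))
        exact n10 (u * x) (by rw [x4.orderOf_mul_eq_mul_orderOf_of_coprime (by rw [hu, x5]; norm_num), hu, x5])
      omega) hk
    exact hce y y1 y2 y3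
  · obtain ⟨P⟩ : Nonempty (Sylow 2 A) := inferInstance
    obtain ⟨j, hj⟩ := IsPGroup.iff_card.1 P.isPGroup'
    have k1 : pCore 2 A = P := eq_of_le_of_card_ge (hQ.le_sylow_of_normal P) (by
      rw [hk, hj]
      exact Nat.pow_le_pow_right two_pos (not_lt.1 fun e => h32 ((pow_dvd_pow 2 e).trans
        (hj ▸ card_subgroup_dvd_card _))))
    have : (P : Subgroup A).Normal := k1 ▸ inferInstance
    exact not_dvd_of_norm P (norm_of_normal hm P ((dvd_pow_self 2 h8).trans (hk ▸ h6))) hi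

end Cfsg.Agent.N2.Sp3
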